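import Cfsg.Agent.H209.PiSpor.ToolsV
import Cfsg.Agent.H582.Ly.Three
import Cfsg.Agent.H513.NilpLy
import Cfsg.Agent.SporRec.LyG2.LyEmb
import Cfsg.Agent.TypeM.OutLyFin

/-!
# S4324: the Lyons group, `s = 5` (helper869)

All automorphisms are inner. `C(t) = 2·A₁₁` kills the elements of order 2 (one class; an involution `u ≠ t` of `C(t)`),
3 (they commute with an involution), 7 and 11 (index); `G₂(5)` kills the elements of order 31 (index); an element of order 5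
with centralizer of order `2 ^ 4 3 ^ 2 5 ^ 6` kills the elements of order 37 and 67.
-/

set_option autoImplicit false

namespace Cfsg.Agent.H869.PiSpor

open Subgroup Cfsg Cfsg.Agent.H216.Pi Cfsg.Agent.H209.PiSpor

universe u

namespace Ly

open Cfsg.Agent.TypeM.Two Cfsg.Agent.Ly.Final Cfsg.Agent.Ly.Pres Cfsg.Agent.SporRec.TwoAn

theorem card_ly : Nat.card Cfsg.Spor.Ly = 2 ^ 8 * 3 ^ 7 * 5 ^ 6 * 7 * 11 * 31 * 37 * 67 := by
  rw [Cfsg.Agent.Ly.Setup.card_ly]; norm_num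

/-- the cover `C(t) → A₁₁` -/
theorem exists_cover : ∃ (t : Cfsg.Spor.Ly) (_ : MT 11 Cfsg.Spor.Ly)
    (π : centralizer ({t} : Set Cfsg.Spor.Ly) →* alternatingGroup (Fin 11)), orderOf t = 2 ∧ Function.Surjective π ∧
      (∀ w : centralizer ({t} : Set Cfsg.Spor.Ly), π w = 1 ↔ (w : Cfsg.Spor.Ly) = 1 ∨ (w : Cfsg.Spor.Ly) = t) ∧
      ∃ u : Cfsg.Spor.Ly, orderOf u = 2 ∧ u ≠ t ∧ u * t = t * u := by
  have hfin : Finite Cfsg.Spor.Ly := Cfsg.Agent.Ly.Setup.finite_ly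
  have hs : IsSimpleGroup Cfsg.Spor.Ly := Cfsg.Agent.Ly.Setup.isSimple_ly
  obtain ⟨L⟩ := Cfsg.Agent.TypeM.FactsLy.exists_mt_ly
  obtain ⟨-, π, h, u, huu, hu1, hut, hcomm, -⟩ :=
    Cfsg.Agent.SporRec.LyReduce.reduce 11 (by norm_num) _ (tw_order hs) Cfsg.Agent.TypeM.FactsLy.isNonsplit_ly
  refine ⟨_, L, π, tw_order hs, h.surj, fun w => ?_, u, orderOf_eq_prime (by rw [pow_two, huu]) hu1, hut, hcomm⟩
  have h1 := h.ker w
  constructor
  · intro hw
    rcases h1.1 hw with h2 | h2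
    · exact Or.inl (congrArg Subtype.val h2)
    · exact Or.inr (congrArg Subtype.val h2)
  · rintro (hw | hw)
    · exact h1.2 (Or.inl (Subtype.ext hw))
    · exact h1.2 (Or.inr (Subtype.ext hw))

/-- `O_{5'}(A₁₁) = 1` -/
theorem core_alt : pPrimeCore 5 (alternatingGroup (Fin 11)) = ⊥ := by
  have hs : IsSimpleGroup ↥(alternatingGroup (Fin 11)) := alternatingGroup.isSimpleGroup (by simp)
  refine core_eq_bot_of_simple Nat.prime_five ?_
  rw [nat_card_alternatingGroup, Nat.card_eq_fintype_card, Fintype.card_fin]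
  norm_num [Nat.factorial]

theorem center_bot : center Cfsg.Spor.Ly = ⊥ := by
  have hs : IsSimpleGroup Cfsg.Spor.Ly := Cfsg.Agent.Ly.Setup.isSimple_ly
  rcases (inferInstance : (center Cfsg.Spor.Ly).Normal).eq_bot_or_eq_top with h | h
  · exact h
  · exfalso
    obtain ⟨L⟩ := Cfsg.Agent.TypeM.FactsLy.exists_mt_ly
    obtain ⟨a, b, hab⟩ := Cfsg.Agent.TypeM.OutLyFin.not_comm (by norm_num) L
    apply hab
    have h1 : b ∈ center Cfsg.Spor.Ly := by rw [h]; exact mem_top b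
    exact mem_center_iff.1 h1 a

theorem cent_ne_top {z : Cfsg.Spor.Ly} (hz : z ≠ 1) : centralizer ({z} : Set Cfsg.Spor.Ly) ≠ ⊤ := by
  intro h
  apply hz
  rw [← mem_bot, ← center_bot, mem_center_iff]
  intro k
  have h3 : k ∈ centralizer ({z} : Set Cfsg.Spor.Ly) := by rw [h]; exact mem_top k
  exact mem_centralizer_singleton_iff.1 h3

/-- an element commuting with the involution `s`, of order `r`, not `s` itself, is killed -/
theorem ni_of_comm {r : ℕ} (hr : r.Prime) (hr5 : r ≠ 5)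
    (h : ∀ g : Cfsg.Spor.Ly, orderOf g = r → ∃ s : Cfsg.Spor.Ly, orderOf s = 2 ∧ g ≠ s ∧ s * g = g * s) :
    NI 5 r Cfsg.Spor.Ly := by
  have hfin : Finite Cfsg.Spor.Ly := Cfsg.Agent.Ly.Setup.finite_ly
  obtain ⟨t, L, π, ht, hsurj, hker, -⟩ := exists_cover
  refine NI.of_forall Nat.prime_five hr hr5 fun g hg => ?_
  obtain ⟨s, hs, hgs, hc⟩ := h g hg
  obtain ⟨hss, hs1⟩ := MT.sq_of_orderOf hs
  obtain ⟨htt, ht1⟩ := MT.sq_of_orderOf ht
  obtain ⟨a, ha⟩ := L.conj_of_involutions hss hs1 htt ht1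
  have hm : a * g * a⁻¹ ∈ centralizer ({t} : Set Cfsg.Spor.Ly) := by
    rw [mem_centralizer_singleton_iff, ← ha]
    calc a * g * a⁻¹ * (a * s * a⁻¹) = a * (g * s) * a⁻¹ := by group
      _ = a * (s * g) * a⁻¹ := by rw [hc]
      _ = a * s * a⁻¹ * (a * g * a⁻¹) := by group
  refine ⟨a, _, cent_ne_top ht1, hm, not_mem_coreIn_of_hom hm π hsurj core_alt ?_⟩
  intro h1
  rcases (hker _).1 h1 with h2 | h2
  · have h3 : a * g * a⁻¹ = 1 := h2
    have h4 := orderOf_conj' a g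
    rw [h3, orderOf_one, hg] at h4
    exact hr.one_lt.ne h4
  · have h3 : a * g * a⁻¹ = t := h2
    rw [← ha] at h3
    exact hgs (mul_left_cancel (mul_right_cancel h3))

theorem ni_two : NI 5 2 Cfsg.Spor.Ly := by
  have hfin : Finite Cfsg.Spor.Ly := Cfsg.Agent.Ly.Setup.finite_ly
  obtain ⟨t, L, π, ht, hsurj, hker, u, hu, hut, huc⟩ := exists_cover
  refine ni_of_comm Nat.prime_two (by norm_num) fun g hg => ?_
  obtain ⟨huu, hu1⟩ := MT.sq_of_orderOf hu
  obtain ⟨hgg, hg1⟩ := MT.sq_of_orderOf hg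
  obtain ⟨a, ha⟩ := L.conj_of_involutions huu hu1 hgg hg1
  refine ⟨a * t * a⁻¹, by rw [orderOf_conj', ht], ?_, ?_⟩
  · rw [← ha]
    exact fun h => hut (mul_left_cancel (mul_right_cancel h))
  · rw [← ha]
    calc a * t * a⁻¹ * (a * u * a⁻¹) = a * (t * u) * a⁻¹ := by group
      _ = a * (u * t) * a⁻¹ := by rw [huc]
      _ = a * u * a⁻¹ * (a * t * a⁻¹) := by group

theorem ni_three : NI 5 3 Cfsg.Spor.Ly := by
  have hfin : Finite Cfsg.Spor.Ly := Cfsg.Agent.Ly.Setup.finite_ly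
  refine ni_of_comm Nat.prime_three (by norm_num) fun g hg => ?_
  obtain ⟨x₀, h₀⟩ := Cfsg.Agent.H582.Ly.exists_tdata_ly
  obtain ⟨s, hs, hsg⟩ := Cfsg.Agent.H582.Ly.fact_a Cfsg.Agent.Ly.Setup.card_ly h₀ hg
  refine ⟨s, hs, ?_, hsg⟩
  rintro rfl
  rw [hg] at hs
  norm_num at hs

theorem ni_of_index {r : ℕ} (hr : r.Prime) (hr5 : r ≠ 5) (hr2 : r ≠ 2) (hi : ¬ r ∣ 3 ^ 3 * 5 ^ 4 * 31 * 37 * 67) :
    NI 5 r Cfsg.Spor.Ly := by
  have hfin : Finite Cfsg.Spor.Ly := Cfsg.Agent.Ly.Setup.finite_ly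
  obtain ⟨t, L, π, ht, hsurj, hker, -⟩ := exists_cover
  obtain ⟨htt, ht1⟩ := MT.sq_of_orderOf ht
  have hk : Nat.card π.ker ∣ 2 := by
    have h1 : π.ker ≤ zpowers (⟨t, mem_centralizer_singleton_iff.2 rfl⟩ : centralizer ({t} : Set Cfsg.Spor.Ly)) := by
      intro w hw
      rcases (hker w).1 hw with h2 | h2
      · rw [show w = 1 from Subtype.ext h2]
        exact one_mem _
      · rw [show w = ⟨t, mem_centralizer_singleton_iff.2 rfl⟩ from Subtype.ext h2]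
        exact mem_zpowers _
    have h3 := Subgroup.card_dvd_of_le h1
    rwa [Nat.card_zpowers, Subgroup.orderOf_mk, ht] at h3
  have hcard : Nat.card ↥(centralizer ({t} : Set Cfsg.Spor.Ly)) = 39916800 := by
    exact Cfsg.Agent.H513.NilpLy.card_inv { t := L.t, K := L.K, hz := L.hz, one := L.one } ht
  refine NI.of_index_hom Nat.prime_five hr hr5 (M := centralizer ({t} : Set Cfsg.Spor.Ly)) (cent_ne_top ht1) ?_ π hsurj
    core_alt fun h => ?_
  · have h1 := (centralizer ({t} : Set Cfsg.Spor.Ly)).card_mul_index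
    rw [hcard, Cfsg.Agent.Ly.Setup.card_ly] at h1
    have h2 : (centralizer ({t} : Set Cfsg.Spor.Ly)).index = 3 ^ 3 * 5 ^ 4 * 31 * 37 * 67 := by omega
    rwa [h2]
  · have h1 := h.trans hk
    rcases (Nat.dvd_prime Nat.prime_two).1 h1 with h2 | h2
    · exact hr.one_lt.ne' h2
    · exact hr2 h2

theorem ni_31 : NI 5 31 Cfsg.Spor.Ly := by
  have hfin : Finite Cfsg.Spor.Ly := Cfsg.Agent.Ly.Setup.finite_ly
  have h1 := (Cfsg.Agent.SporRec.LyG2.LyEmb.H).card_mul_index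
  rw [Cfsg.Agent.SporRec.LyG2.LyEmb.card_H, Cfsg.Agent.Ly.Setup.card_ly] at h1
  have h2 : (Cfsg.Agent.SporRec.LyG2.LyEmb.H).index = 8835156 := by omega
  refine NI.of_index_simple Nat.prime_five (by norm_num) (by norm_num) (M := Cfsg.Agent.SporRec.LyG2.LyEmb.H) ?_ ?_
    Cfsg.Agent.SporRec.LyG2.LyEmb.isSimpleGroup_H (by rw [Cfsg.Agent.SporRec.LyG2.LyEmb.card_H]; norm_num)
  · intro h
    rw [h, index_top] at h2
    norm_num at h2
  · rw [h2]; norm_num

theorem ni_V {r : ℕ} (hr : r.Prime) (hf : ¬ r ∣ 5 ^ 5 * 720) (hsq : ¬ r ^ 2 ∣ 51765179004000000)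
    (h5 : ¬ 5 ∣ r - 1) : NI 5 r Cfsg.Spor.Ly := by
  have hfin : Finite Cfsg.Spor.Ly := Cfsg.Agent.Ly.Setup.finite_ly
  obtain ⟨M⟩ := Cfsg.Agent.TypeM.FactsLy.exists_mt_ly
  obtain ⟨f, hf5, hcf⟩ : ∃ f : Cfsg.Spor.Ly, orderOf f = 5 ∧
      Nat.card ↥(centralizer ({f} : Set Cfsg.Spor.Ly)) = 5 ^ 5 * 720 := by
    obtain ⟨f, hf⟩ := Cfsg.Agent.SporRec.LyFiveFinal.exists_five
      (L := { t := M.t, K := M.K, hz := M.hz, one := M.one })
    obtain ⟨⟨hE⟩, -⟩ := Cfsg.Agent.SporRec.LyFiveFinal.exists_lyFive hf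
    have hin := Cfsg.Agent.SporRec.LyFiveSix.fiveIn hf hE.card
    exact ⟨f, hin.f5, hin.card_centralizer⟩
  refine NI.of_V Nat.prime_five hr center_bot hf5 (fun h hh hc => hf ?_) fun b hb1 hb => ?_
  · rw [← hcf, ← hh]
    exact Subgroup.orderOf_dvd_natCard _ (mem_centralizer_singleton_iff.2 hc)
  · have hb2 : b = 1 := by
      by_contra hcon
      apply hsq
      rw [Cfsg.Agent.Ly.Setup.card_ly] at hb
      exact (pow_dvd_pow r (by omega)).trans hb
    rw [hb2, pow_one]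
    exact h5

theorem ncs : NCs 5 Cfsg.Spor.Ly := by
  have hfin : Finite Cfsg.Spor.Ly := Cfsg.Agent.Ly.Setup.finite_ly
  refine ncs_of_inner center_bot (fun p hp hp5 => ?_) Cfsg.Agent.TypeM.OutLyFin.inner_ly
  by_cases hd : p ∣ 51765179004000000
  · rw [show 51765179004000000 = 2 ^ 8 * 3 ^ 7 * 5 ^ 6 * 7 * 11 * 31 * 37 * 67 by norm_num,
      hp.dvd_mul, hp.dvd_mul, hp.dvd_mul, hp.dvd_mul, hp.dvd_mul, hp.dvd_mul, hp.dvd_mul] at hd
    rcases hd with ((((((hd | hd) | hd) | hd) | hd) | hd) | hd) | hd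
    · rw [(Nat.prime_dvd_prime_iff_eq hp Nat.prime_two).1 (hp.dvd_of_dvd_pow hd)]
      exact ni_two
    · rw [(Nat.prime_dvd_prime_iff_eq hp Nat.prime_three).1 (hp.dvd_of_dvd_pow hd)]
      exact ni_three
    · exact (hp5 ((Nat.prime_dvd_prime_iff_eq hp Nat.prime_five).1 (hp.dvd_of_dvd_pow hd))).elim
    · rw [(Nat.prime_dvd_prime_iff_eq hp (by norm_num)).1 hd]
      exact ni_of_index (by norm_num) (by norm_num) (by norm_num) (by norm_num)
    · rw [(Nat.prime_dvd_prime_iff_eq hp (by norm_num)).1 hd]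
      exact ni_of_index (by norm_num) (by norm_num) (by norm_num) (by norm_num)
    · rw [(Nat.prime_dvd_prime_iff_eq hp (by norm_num)).1 hd]
      exact ni_31
    · rw [(Nat.prime_dvd_prime_iff_eq hp (by norm_num)).1 hd]
      exact ni_V (by norm_num) (by norm_num) (by norm_num) (by norm_num)
    · rw [(Nat.prime_dvd_prime_iff_eq hp (by norm_num)).1 hd]
      exact ni_V (by norm_num) (by norm_num) (by norm_num) (by norm_num)
  · intro g hg _ _
    apply hd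
    rw [← Cfsg.Agent.Ly.Setup.card_ly, ← hg]
    exact orderOf_dvd_natCard g

end Ly

/-- **the row of the Lyons group**, `s = 5` -/
theorem ncs_Ly_5 {K : Type u} [Group K] [Finite K] (h : Spor.IsoLy K) : NCs 5 K := by
  obtain ⟨e⟩ := h
  have hfin : Finite Cfsg.Spor.Ly := Cfsg.Agent.Ly.Setup.finite_ly
  exact ncs_congr e.symm Ly.ncs

end Cfsg.Agent.H869.PiSpor
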